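import Cfsg.Agent.H480.TC.Tet
import Cfsg.Agent.H480.TC.Fi22Cent
import Cfsg.Agent.H480.QS.BThree

/-!
# 2B involutions commuting with mixed elements of type 3A in the Baby Monster (helper480; S4173, row B, piece B3)

`s` of type `FiB`, `u` a 2-element commuting with `s`.

* `exists_fix` : an automorphism of `Fi22` of 2-power order fixes a 2-central involution;
* `twoB_frame` : the 2-central involutions of `Fi22 ≤ C(s)` are of type 2B in the Baby Monster;
* `fi_two_B` : `u` and `s` commute with a 2B involution;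
* `fi_elt_two` : an element `g` of order `2^a 3^b` with `g ^ (orderOf g / 3)` of type `FiB` commutes with a 2B involution.
-/

set_option autoImplicit false
set_option maxRecDepth 100000

namespace Cfsg.Agent.H480.TC

section fi22

open Subgroup Cfsg

/-- the 2-central involutions of `Fi22` -/
def Cen (w : Spor.Fi22) : Prop :=
  w * w = 1 ∧ w ≠ 1 ∧ 2 ^ 17 ∣ Nat.card ↥(centralizer ({w} : Set Spor.Fi22))

theorem Cen.map {w : Spor.Fi22} (h : Cen w) (α : MulAut Spor.Fi22) : Cen (α w) := by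
  obtain ⟨h1, h2, h3⟩ := h
  refine ⟨by rw [← map_mul, h1, map_one], fun h4 => h2 (α.injective (by rw [h4, map_one])), ?_⟩
  rwa [← LThreeB.card_centralizer_congr α w]

theorem exists_cen [Finite Spor.Fi22] : ∃ w, Cen w := by
  have hp : Fact (Nat.Prime 2) := ⟨Nat.prime_two⟩
  obtain ⟨P⟩ : Nonempty (Sylow 2 Spor.Fi22) := inferInstance
  have hP : Nat.card P = 2 ^ 17 := by
    rw [P.card_eq_multiplicity, Cfsg.Agent.S1696.result.2]
    congr 1
    rw [show (64561751654400 : ℕ) = 2 ^ 17 * 492567075 by norm_num, Nat.factorization_mul (by norm_num) (by norm_num),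
      Finsupp.add_apply, Nat.Prime.factorization_pow Nat.prime_two, Finsupp.single_eq_same,
      Nat.factorization_eq_zero_of_not_dvd (by norm_num)]
  have hPn : Nontrivial P := Finite.one_lt_card_iff_nontrivial.1 (by
    show 1 < Nat.card P
    rw [hP]
    norm_num)
  have hcn : Nontrivial (center P) := IsPGroup.center_nontrivial P.2
  have h2 : 2 ∣ Nat.card (center P) := by
    obtain ⟨k, hk⟩ := (P.2.to_subgroup (center P)).exists_card_eq
    rcases k with _ | k
    · exfalso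
      rw [pow_zero] at hk
      exact absurd hk (Finite.one_lt_card_iff_nontrivial.2 hcn).ne'
    · rw [hk]
      exact dvd_pow_self 2 (Nat.succ_ne_zero k)
  obtain ⟨c, hc⟩ := exists_prime_orderOf_dvd_card' 2 h2
  have ho : orderOf ((c : P) : Spor.Fi22) = 2 := by
    rw [Subgroup.orderOf_coe, Subgroup.orderOf_coe, hc]
  refine ⟨((c : P) : Spor.Fi22), ?_, ?_, ?_⟩
  · have h4 := pow_orderOf_eq_one ((c : P) : Spor.Fi22)
    rw [ho, pow_two] at h4
    exact h4
  · intro h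
    rw [h, orderOf_one] at ho
    norm_num at ho
  · rw [← hP]
    refine Subgroup.card_dvd_of_le fun y hy => ?_
    rw [mem_centralizer_singleton_iff]
    have h3 := mem_center_iff.1 c.2 ⟨y, hy⟩
    exact congrArg Subtype.val h3

theorem odd_cen [Finite Spor.Fi22] : ¬ 2 ∣ Nat.card {w : Spor.Fi22 // Cen w} := by
  obtain ⟨w, hw⟩ := exists_cen
  obtain ⟨a, ha, b, hb, hab, cab, hwab⟩ := pair_of_dvd hw.1 hw.2.1 hw.2.2
  have h1 := LThreeFi22.orbit_card (⊤ : Subgroup Spor.Fi22) w (S := {w | Cen w}) (by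
    intro x
    constructor
    · intro hx
      obtain ⟨a', ha', b', hb', hab', cab', hx'⟩ := pair_of_dvd hx.1 hx.2.1 hx.2.2
      obtain ⟨g, hg⟩ := conj_pairs ha hb hab cab ha' hb' hab' cab'
      exact ⟨g, trivial, by rw [hx', hwab, hg]⟩
    · rintro ⟨g, -, rfl⟩
      exact hw.map (MulAut.conj g))
  rw [top_inf_eq, Subgroup.card_top, Cfsg.Agent.S1696.result.2] at h1
  obtain ⟨m, hm⟩ := hw.2.2
  rw [hm] at h1
  have h2 : {w : Spor.Fi22 | Cen w}.ncard * m = 492567075 := by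
    have h3 : 2 ^ 17 * ({w : Spor.Fi22 | Cen w}.ncard * m) = 2 ^ 17 * 492567075 := by
      calc 2 ^ 17 * ({w : Spor.Fi22 | Cen w}.ncard * m) = {w : Spor.Fi22 | Cen w}.ncard * (2 ^ 17 * m) := by ring
        _ = 2 ^ 17 * 492567075 := by rw [h1]; norm_num
    exact Nat.eq_of_mul_eq_mul_left (by norm_num) h3
  intro h3
  have h4 : Nat.card {w : Spor.Fi22 // Cen w} = {w : Spor.Fi22 | Cen w}.ncard := Nat.card_coe_set_eq _
  rw [h4] at h3
  have h5 := (h3.mul_right m).trans (dvd_of_eq h2)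
  norm_num at h5

/-- **An automorphism of `Fi22` of 2-power order fixes a 2-central involution.** -/
theorem exists_fix [Finite Spor.Fi22] {α : MulAut Spor.Fi22} {n : ℕ} (hα : α ^ 2 ^ n = 1) :
    ∃ w, Cen w ∧ α w = w := by
  classical
  have hp : Fact (Nat.Prime 2) := ⟨Nat.prime_two⟩
  have := Fintype.ofFinite {w : Spor.Fi22 // Cen w}
  let σ : Equiv.Perm {w : Spor.Fi22 // Cen w} :=
    { toFun := fun w => ⟨α w, w.2.map α⟩
      invFun := fun w => ⟨α⁻¹ w, w.2.map α⁻¹⟩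
      left_inv := fun w => Subtype.ext (MulAut.inv_apply_self _ α (w : Spor.Fi22))
      right_inv := fun w => Subtype.ext (MulAut.apply_inv_self _ α (w : Spor.Fi22)) }
  have hσ : ∀ (k : ℕ) (x : {w : Spor.Fi22 // Cen w}), (((σ ^ k) x : {w : Spor.Fi22 // Cen w}) : Spor.Fi22) =
      (α ^ k) (x : Spor.Fi22) := by
    intro k
    induction k with
    | zero => intro x; rfl
    | succ k ih =>
      intro x
      rw [pow_succ, pow_succ]
      exact ih (σ x)
  obtain ⟨x, hx⟩ := Equiv.Perm.exists_fixed_point_of_prime (p := 2) (n := n) (σ := σ)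
    (by rw [← Nat.card_eq_fintype_card]; exact odd_cen) (by
      ext x
      rw [hσ, hα]
      rfl)
  exact ⟨x, x.2, congrArg Subtype.val hx⟩

end fi22

section frame

open Cfsg Cfsg.Agent Cfsg.Agent.H480.Ore

variable {L : Type*} [Group L] {s : L} (F : FiFrame s)
include F

/-- the automorphism of `Fi22` induced by an element of `C(s)` -/
theorem exists_aut [Finite Spor.Fi22] {u : L} (hus : u * s = s * u) :
    ∃ α : MulAut Spor.Fi22, ∀ f, F.j (α f) = u * F.j f * u⁻¹ := by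
  by_cases h : u ∈ F.S
  · obtain ⟨k, g, rfl⟩ := h
    refine ⟨MulAut.conj g, fun f => ?_⟩
    have h1 : Commute (s ^ k) (F.j (g * f * g⁻¹)) := ((show Commute (F.j (g * f * g⁻¹)) s from F.comm _).zpow_right k).symm
    calc F.j (MulAut.conj g f) = F.j (g * f * g⁻¹) * (s ^ k * (s ^ k)⁻¹) := by
          rw [MulAut.conj_apply, mul_inv_cancel, mul_one]
      _ = s ^ k * F.j (g * f * g⁻¹) * (s ^ k)⁻¹ := by rw [← mul_assoc, h1.eq]
      _ = s ^ k * F.j g * F.j f * (s ^ k * F.j g)⁻¹ := by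
          rw [map_mul, map_mul, map_inv]
          group
  · exact F.exists_aut hus h

/-- **a 2-element of `C(s)` commutes with a 2-central involution of `Fi22`** -/
theorem exists_cen_comm [Finite L] {u : L} {n : ℕ} (hn : u ^ 2 ^ n = 1) (hus : u * s = s * u) :
    ∃ w, Cen w ∧ F.j w * u = u * F.j w := by
  have hfin : Finite Spor.Fi22 := Finite.of_injective F.j F.inj
  obtain ⟨α, hα⟩ := exists_aut F hus
  have hpow : ∀ (m : ℕ) (f : Spor.Fi22), F.j ((α ^ m) f) = u ^ m * F.j f * (u ^ m)⁻¹ := by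
    intro m
    induction m with
    | zero => intro f; rw [pow_zero, pow_zero, one_mul, inv_one, mul_one]; rfl
    | succ m ih =>
      intro f
      rw [pow_succ, pow_succ]
      show F.j ((α ^ m) (α f)) = _
      rw [ih, hα]
      group
  obtain ⟨w, hw, hαw⟩ := exists_fix (α := α) (n := n) (by
    ext f
    apply F.inj
    rw [hpow, hn, one_mul, inv_one, mul_one]
    rfl)
  refine ⟨w, hw, ?_⟩
  have h1 := hα w
  rw [hαw] at h1
  exact (eq_mul_inv_iff_mul_eq.1 h1)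

end frame

section model

open Cfsg Cfsg.Agent Cfsg.Agent.MonsterX Cfsg.Agent.MonsterX.InstData Cfsg.Agent.MonsterX.MainPack Cfsg.Agent.MonsterU
open Cfsg.Agent.MonsterP Cfsg.Agent.MonsterN Cfsg.Agent.LThree Cfsg.Agent.LThreeMB
open Cfsg.Agent.MonsterX.MainBasic Cfsg.Agent.MonsterX.MainSimple Cfsg.Agent.MonsterX.Model
open Cfsg.Agent.H480.Ore Cfsg.Agent.H844.Ore
open Cfsg.Agent.H630.Baby
open Cfsg.Agent.R08 Cfsg.Agent.R08.FiTwentyFour
open Cfsg.Agent.R08.TetTwo (IsTet)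
open Cfsg.Agent.R08.TetFi24A
open Cfsg.Spor (Co1 Fi24)
open Cfsg.Agent.H849.ThreeNorm
open Subgroup (centralizer mem_centralizer_singleton_iff center zpowers)

/-- `TwoB` is a class property -/
theorem TwoB.conj {L : Type*} [Group L] {W : L} (h : TwoB W) (k : L) : TwoB (k * W * k⁻¹) := by
  obtain ⟨t₀, ht, h2, e, w, hww, hzw, hta, rfl⟩ := h
  obtain ⟨k', rfl⟩ : ∃ k', e (QuotientGroup.mk k') = k := by
    obtain ⟨k', hk'⟩ := QuotientGroup.mk_surjective (e.symm k)
    exact ⟨k', by rw [hk', e.apply_symm_apply]⟩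
  refine ⟨t₀, ht, h2, e, k' * w * k'⁻¹, ?_, ?_, ?_, ?_⟩
  · rw [Subgroup.coe_mul, Subgroup.coe_mul, Subgroup.coe_inv]
    calc (k' : Mon) * w * (k' : Mon)⁻¹ * ((k' : Mon) * w * (k' : Mon)⁻¹) = k' * ((w : Mon) * w) * (k' : Mon)⁻¹ := by group
      _ = 1 := by rw [hww]; group
  · exact IsConj.trans hzw (isConj_iff.2 ⟨(k' : Mon), rfl⟩)
  · have hkt : (k' : Mon)⁻¹ * t₀ = t₀ * (k' : Mon)⁻¹ :=
      ((show Commute (k' : Mon) t₀ from mem_centralizer_singleton_iff.1 k'.2).inv_left).eq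
    refine IsConj.trans hta (isConj_iff.2 ⟨(k' : Mon), ?_⟩)
    rw [Subgroup.coe_mul, Subgroup.coe_mul, Subgroup.coe_inv]
    calc (k' : Mon) * (w * t₀) * (k' : Mon)⁻¹ = k' * w * (t₀ * (k' : Mon)⁻¹) := by group
      _ = k' * w * ((k' : Mon)⁻¹ * t₀) := by rw [hkt]
      _ = _ := by group
  · rw [QuotientGroup.mk_mul, QuotientGroup.mk_mul, QuotientGroup.mk_inv, map_mul, map_mul, map_inv]

/-- **The 2-central involutions of `Fi22` in `C(s)`** are of type 2B. -/
theorem twoB_frame {t₀ : Mon} (hA : LThreeB.Row.TA t₀)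
    (h2 : Nat.card ↥(center ↥(centralizer ({t₀} : Set Mon))) = 2) {L : Type*} [Group L]
    (e : ↥(centralizer ({t₀} : Set Mon)) ⧸ center ↥(centralizer ({t₀} : Set Mon)) ≃* L)
    {x : ↥(centralizer ({t₀} : Set Mon))} (hx : orderOf x = 3) (h : FiType t₀ (x : Mon)) :
    ∃ F : FiFrame (e (QuotientGroup.mk x)), ∀ w, Cen w → TwoB (F.j w) := by
  have hfin : Finite Mon := MThirteen.Row.finite
  have ho := MThirteen.Row.ta_order hA
  have htt : t₀ * t₀ = 1 := by rw [← pow_two, ← ho, pow_orderOf_eq_one]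
  have ht1 : t₀ ≠ 1 := by
    rintro rfl
    rw [orderOf_one] at ho
    norm_num at ho
  have hx' : orderOf (x : Mon) = 3 := by rw [Subgroup.orderOf_coe, hx]
  obtain ⟨hxt, f, a, b, P, hf⟩ := h
  obtain ⟨r, D⟩ := exists_data hx' f
  obtain ⟨i, κ, F, hii, hix, hit, hκ, hκπ, -, hj⟩ := QS.exists_frame' htt ht1 h2 e D hxt P hf
  refine ⟨F, ?_⟩
  -- the tetrad
  obtain ⟨a0, b0, c0, -, ht, -⟩ := Cfsg.Agent.R01.Strong.tFacts.four
  obtain ⟨c, Hc, rfl⟩ := P.exists_x ht.mx
  obtain ⟨d, Hd, rfl⟩ := P.exists_x ht.my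
  have cd := (P.comm_iff _ _).1 ht.cxy
  have ncd := P.ne_of ht.xy
  have hT : IsTet FiTwentyFour.L (a * b * c * d) a b c d :=
    { ha := P.ha, hb := P.hb, hc := Hc.hc, hd := Hd.hc, ab := P.ab, ac := Hc.ca.symm, ad := Hd.ca.symm
      bc := Hc.cb.symm, bd := Hd.cb.symm, cd := cd, nab := P.ne, nac := Hc.na.symm, nad := Hd.na.symm
      nbc := Hc.nb.symm, nbd := Hd.nb.symm, ncd := ncd, prod := rfl }
  obtain ⟨w, hwx, hww, hzc, hwt, hTA, -, hfwt⟩ := exists_tet hx' hA hxt f hT hf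
  -- `w t₀` in `K`
  obtain ⟨k, hk⟩ := hκ.2 (P.x Hc * P.x Hd)
  have hkc : ((κ k : Cab a b) : Fi24) = c * d := by rw [hk, P.x_mul]
  have hcdcd : c * d * (c * d) = 1 := by
    calc c * d * (c * d) = c * (d * c) * d := by group
      _ = c * (c * d) * d := by rw [cd.eq]
      _ = (c * c) * (d * d) := by group
      _ = 1 := by rw [FiTwentyFour.sq Hc.hc, FiTwentyFour.sq Hd.hc, one_mul]
  have hkk : (k : Mon) * k = 1 := by
    have h1 : k * k = 1 := by
      apply hκ.1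
      rw [map_mul, map_one]
      apply Subtype.ext
      rw [Subgroup.coe_mul, hkc, hcdcd]
      rfl
    exact congrArg Subtype.val h1
  have hkx : (k : Mon) * x = x * k := (mem_KK.1 k.2).1
  have hwtx : (w * t₀) * (x : Mon) = x * (w * t₀) :=
    ((show Commute w (x : Mon) from hwx).mul_left (show Commute t₀ (x : Mon) from hxt)).eq
  have hwtwt : (w * t₀) * (w * t₀) = 1 := by
    calc w * t₀ * (w * t₀) = w * (t₀ * w) * t₀ := by group
      _ = w * (w * t₀) * t₀ := by rw [hwt]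
      _ = (w * w) * (t₀ * t₀) := by group
      _ = 1 := by rw [hww, htt, one_mul]
  have hkw : (k : Mon) = w * t₀ := by
    refine eq_of_mk hx' hkx hwtx hkk hwtwt (f.injective (Subtype.ext ?_))
    rw [hfwt hwtx, ← hkc, hκπ k]
    rfl
  let w' : ↥(centralizer ({t₀} : Set Mon)) := ⟨w, mem_centralizer_singleton_iff.2 hwt⟩
  let t' : ↥(centralizer ({t₀} : Set Mon)) := ⟨t₀, mem_centralizer_singleton_iff.2 rfl⟩
  have ht' : t' ∈ center ↥(centralizer ({t₀} : Set Mon)) := by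
    rw [Subgroup.mem_center_iff]
    intro g
    exact Subtype.ext (mem_centralizer_singleton_iff.1 g.2)
  have hW : TwoB (F.j (P.π (P.x Hc * P.x Hd))) := by
    refine ⟨t₀, hA, h2, e, w', hww, hzc, hTA, ?_⟩
    rw [← hk, hj]
    congr 1
    have h1 : (⟨(k : Mon), mem_centralizer_singleton_iff.2 (mem_KK.1 k.2).2.2⟩ : ↥(centralizer ({t₀} : Set Mon))) =
        w' * t' := Subtype.ext hkw
    rw [h1, QuotientGroup.mk_mul, (QuotientGroup.eq_one_iff t').2 ht', mul_one]
  intro w1 hw1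
  obtain ⟨a', ha', b', hb', hab', cab', hw1'⟩ := pair_of_dvd hw1.1 hw1.2.1 hw1.2.2
  obtain ⟨g, hg⟩ := conj_pairs ht.mx ht.my ht.xy ht.cxy ha' hb' hab' cab'
  have h3 := TwoB.conj hW (F.j g)
  have h4 : F.j g * F.j (P.π (P.x Hc * P.x Hd)) * (F.j g)⁻¹ = F.j w1 := by
    rw [← map_inv, ← map_mul, ← map_mul, map_mul P.π, hg, ← hw1']
  rwa [h4] at h3

/-- **Piece B3.** -/
theorem fi_two_B {L : Type*} [Group L] {s u : L} (hs : FiB s) {n : ℕ} (hn : u ^ 2 ^ n = 1) (hus : u * s = s * u) :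
    ∃ W : L, TwoB W ∧ W * u = u * W ∧ W * s = s * W := by
  have hfin : Finite Mon := MThirteen.Row.finite
  obtain ⟨t₀, hA, h2, e, x, hx, rfl, hf⟩ := hs
  have : Finite L := Finite.of_equiv _ e.toEquiv
  obtain ⟨F, hF⟩ := twoB_frame hA h2 e hx hf
  obtain ⟨w, hw, hwu⟩ := exists_cen_comm F hn hus
  exact ⟨F.j w, hF w hw, hwu, F.comm w⟩

/-- **Piece B3, for elements**: `g` of order `2^a 3^b` with `g ^ (orderOf g / 3)` of type 3A commutes with a 2B involution. -/
theorem fi_elt_two {L : Type*} [Group L] [Finite L] {g : L} (a b : ℕ) (ho : orderOf g = 2 ^ a * 3 ^ b)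
    (hs : FiB (g ^ (orderOf g / 3))) : ∃ W : L, TwoB W ∧ W * g = g * W := by
  obtain ⟨s, hs'⟩ : ∃ s, s = g ^ (orderOf g / 3) := ⟨_, rfl⟩
  rw [← hs'] at hs
  have hos : orderOf s = 3 := by
    obtain ⟨t₀, hA, h2, e, x, hx, h1, hf⟩ := hs
    rw [← h1]
    exact H480.Ore.order_s hA h2 e hx hf
  have hcube : ∀ y : L, y ^ 3 ≠ s := by
    intro y hy
    obtain ⟨t₀, hA, h2, e, x, hx, h1, hf⟩ := hs
    exact H480.Ore.no_cube hA h2 e hx hf y (hy.trans h1.symm)
  -- `b = 1`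
  have hb : b = 1 := by
    rcases b with _ | _ | b
    · exfalso
      rw [pow_zero, mul_one] at ho
      have h1 : s ^ 2 ^ a = 1 := by rw [hs', ← pow_mul, mul_comm, pow_mul, ← ho, pow_orderOf_eq_one, one_pow]
      have h2 := orderOf_dvd_of_pow_eq_one h1
      rw [hos] at h2
      have := Nat.prime_three.dvd_of_dvd_pow h2
      revert this
      decide
    · rfl
    · exfalso
      refine hcube (g ^ (2 ^ a * 3 ^ b)) ?_
      rw [hs', ← pow_mul, ho]
      congr 1
      have : 2 ^ a * 3 ^ (b + 1 + 1) = 3 * (2 ^ a * 3 ^ b * 3) := by ring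
      rw [this, Nat.mul_div_cancel_left _ (by norm_num : 0 < 3)]
  subst hb
  rw [pow_one] at ho
  have hs2 : s = g ^ 2 ^ a := by
    rw [hs', ho, Nat.mul_div_cancel _ (by norm_num : 0 < 3)]
  have hcop : Nat.Coprime (2 ^ a) 3 := Nat.Coprime.pow_left _ (by norm_num)
  have hbez : ((2 ^ a : ℕ) : ℤ) * Nat.gcdA (2 ^ a) 3 + ((3 : ℕ) : ℤ) * Nat.gcdB (2 ^ a) 3 = 1 := by
    have := Nat.gcd_eq_gcd_ab (2 ^ a) 3
    rw [hcop] at this
    exact_mod_cast this.symm
  set m := Nat.gcdA (2 ^ a) 3 with hm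
  set n := Nat.gcdB (2 ^ a) 3 with hn
  have hg : g = g ^ (((3 : ℕ) : ℤ) * n) * s ^ m := by
    have e1 : s ^ m = g ^ (((2 ^ a : ℕ) : ℤ) * m) := by rw [hs2, ← zpow_natCast, ← zpow_mul]
    rw [e1, ← zpow_add, add_comm, hbez, zpow_one]
  obtain ⟨u, hu⟩ : ∃ u, u = g ^ (((3 : ℕ) : ℤ) * n) := ⟨_, rfl⟩
  rw [← hu] at hg
  have hu1 : u ^ 2 ^ a = 1 := by
    rw [hu, ← zpow_natCast, ← zpow_mul]
    have e1 : ((3 : ℕ) : ℤ) * n * ((2 ^ a : ℕ) : ℤ) = ((orderOf g : ℕ) : ℤ) * n := by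
      rw [ho]
      push_cast
      ring
    rw [e1, zpow_mul, zpow_natCast, pow_orderOf_eq_one, one_zpow]
  have hus : u * s = s * u := by
    rw [hu, hs2]
    exact ((Commute.refl g).zpow_left _).pow_right _
  obtain ⟨W, hW, h1, h2⟩ := fi_two_B hs hu1 hus
  refine ⟨W, hW, ?_⟩
  rw [hg]
  exact ((show Commute W u from h1).mul_right ((show Commute W s from h2).zpow_right m)).eq

end model

end Cfsg.Agent.H480.TC
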