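import Cfsg.Agent.H844.Ore.BThree
import Cfsg.Agent.H480.Ore.BFiType

/-!
# Tetrads over an element of order three of Fischer type (helper480; S4173, row B, piece B3)

`x` in the Monster with `C(x)/⟨x⟩ ≅ Fi24'`, `t` in 2A commuting with `x`, with image `a b`; `a b c d` a tetrad.

* `exists_tet` : there is a 2B involution `w` commuting with `x`, `t`, with image `a b c d`, and `w t` is in 2A.
-/

set_option autoImplicit false
set_option maxRecDepth 100000

namespace Cfsg.Agent.H480.TC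

open Cfsg Cfsg.Agent Cfsg.Agent.MonsterX Cfsg.Agent.MonsterX.InstData Cfsg.Agent.MonsterX.MainPack Cfsg.Agent.MonsterU
open Cfsg.Agent.MonsterP Cfsg.Agent.MonsterN Cfsg.Agent.LThree Cfsg.Agent.LThreeMB
open Cfsg.Agent.MonsterX.MainBasic Cfsg.Agent.MonsterX.MainSimple Cfsg.Agent.MonsterX.Model
open Cfsg.Agent.H844.Ore.BThree Cfsg.Agent.H480.Ore
open Cfsg.Agent.H979.BAdj Cfsg.Agent.H630.Baby
open Cfsg.Agent.R08 Cfsg.Agent.R08.FiTwentyFour
open Cfsg.Agent.R08.TetTwo (IsTet)
open Cfsg.Spor (Co1 Fi24)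
open Subgroup (centralizer mem_centralizer_singleton_iff center zpowers)

/-- involutions commuting with `x` are determined by their images -/
theorem eq_of_mk {G : Type*} [Group G] {x s t : G} (hx : orderOf x = 3) (hs : s * x = x * s) (ht : t * x = x * t)
    (hss : s * s = 1) (htt : t * t = 1) (h : mk x hs = mk x ht) : s = t := by
  obtain ⟨i, hi⟩ := (mk_eq_mk hs ht).1 h
  have h4 : s * x ^ i = x ^ i * s := ((show Commute s x from hs).zpow_right i).eq
  have h5 : x ^ i * x ^ i = 1 := by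
    calc x ^ i * x ^ i = (s * s) * (x ^ i * x ^ i) := by rw [hss, one_mul]
      _ = s * (s * x ^ i) * x ^ i := by group
      _ = s * (x ^ i * s) * x ^ i := by rw [h4]
      _ = (s * x ^ i) * (s * x ^ i) := by group
      _ = 1 := by rw [hi, htt]
  have h6 : (x ^ i) ^ 3 = 1 := by
    rw [← zpow_natCast, ← zpow_mul, mul_comm, zpow_mul, zpow_natCast, ← hx, pow_orderOf_eq_one, one_zpow]
  have h7 : x ^ i = 1 := by
    rw [pow_succ, pow_two, h5, one_mul] at h6
    exact h6
  rw [h7, mul_one] at hi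
  exact hi

/-- **`z` over the 2-central involutions of `Fi24'`** -/
theorem exists_w0 {x : Mon} (hx : orderOf x = 3) (f : XX x ≃* Spor.Fi24') :
    ∃ (w : Mon) (hw : w * x = x * w), w * w = 1 ∧ IsConj KDone.K.z w ∧
      ∃ g : Spor.Fi24', f (mk x hw) = g * CTwoTab.FiTF.z0 * g⁻¹ := by
  have hfin : Finite Mon := MThirteen.Row.finite
  have hsim : IsSimpleGroup Mon := MThirteen.Row.simple
  have h := chart
  have I := CoOneFin.coOne
  obtain ⟨y, k, hy, hk, hfr⟩ := exists_cz hx f
  obtain ⟨r, hr, hfs, hct, h4⟩ := I.psu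
  obtain ⟨x₁, hx₁, hpx, c, hc⟩ := exists_conj_to h hy hr (by rw [hfr]; exact I.twelve) (by rw [hfs, hfr])
  have hk' : (k * c) * (x₁ : Mon) * (k * c)⁻¹ = x := by
    rw [← hk, ← hc]
    group
  obtain ⟨φ, hφ⟩ := exists_XX_map hk'
  have hfr₁ : fr (KChart.pi LThreeB.Row.cent x₁) = 2 ^ 12 := by rw [hpx, hfs]
  have hct₁ : CTwelve (KChart.pi LThreeB.Row.cent x₁) := by rw [hpx]; exact hct
  obtain ⟨h1, h3⟩ := card_tt h hx₁ hfr₁ hct₁
  set w : Mon := (k * c) * KDone.K.z * (k * c)⁻¹ with hw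
  have hzz : KDone.K.z * KDone.K.z = 1 := h.large.z_sq
  have hww : w * w = 1 := by
    rw [hw]
    calc k * c * KDone.K.z * (k * c)⁻¹ * (k * c * KDone.K.z * (k * c)⁻¹) =
          k * c * (KDone.K.z * KDone.K.z) * (k * c)⁻¹ := by group
      _ = 1 := by rw [hzz]; group
  have hx₁z : (x₁ : Mon) * KDone.K.z = KDone.K.z * x₁ := mem_centralizer_singleton_iff.1 x₁.2
  have hwx : w * x = x * w := by
    rw [hw, ← hk']
    calc k * c * KDone.K.z * (k * c)⁻¹ * (k * c * (x₁ : Mon) * (k * c)⁻¹) =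
          k * c * (KDone.K.z * x₁) * (k * c)⁻¹ := by group
      _ = k * c * (x₁ * KDone.K.z) * (k * c)⁻¹ := by rw [hx₁z]
      _ = _ := by group
  have hwe : φ (mk x hwx) = tt x₁ := by
    have h6 : ((k * c)⁻¹ * w * (k * c)) = KDone.K.z := by rw [hw]; group
    rw [hφ w hwx (by rw [h6, hx₁z])]
    exact mk_congr _ _ h6
  have ho : orderOf (f (mk x hwx)) = 2 := by
    rw [MulEquiv.orderOf_eq, ← MulEquiv.orderOf_eq φ, hwe, h1]
  have hcard : Nat.card ↥(centralizer ({f (mk x hwx)} : Set Spor.Fi24')) = 2 * (3265920 * 3) * 2 ^ 13 := by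
    rw [← LThreeB.card_centralizer_congr f, LThreeB.card_centralizer_congr φ, hwe, h3]
  refine ⟨w, hwx, hww, isConj_iff.2 ⟨k * c, hw.symm⟩, ?_⟩
  rcases CTwoTab.FiTF.classes _ ho with ⟨a, b, P, h6⟩ | h6
  · exfalso
    have h7 := LThreeB.dvd_pair P h6
    rw [hcard] at h7
    norm_num at h7
  · exact h6

/-- **The tetrads.** -/
theorem exists_tet {x t : Mon} (hx : orderOf x = 3) (hA : LThreeB.Row.TA t) (htx : t * x = x * t)
    (f : XX x ≃* Spor.Fi24') {a b c d : Fi24} (hT : IsTet L (a * b * c * d) a b c d)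
    (hf : ((f (mk x htx) : Spor.Fi24') : Fi24) = a * b) :
    ∃ (w : Mon) (hwx : w * x = x * w), w * w = 1 ∧ IsConj KDone.K.z w ∧ w * t = t * w ∧ LThreeB.Row.TA (w * t) ∧
      ((f (mk x hwx) : Spor.Fi24') : Fi24) = a * b * c * d ∧
      ∀ h : (w * t) * x = x * (w * t), ((f (mk x h) : Spor.Fi24') : Fi24) = c * d := by
  have hfin : Finite Mon := MThirteen.Row.finite
  have hto := MThirteen.Row.ta_order hA
  have htt : t * t = 1 := by rw [← pow_two, ← hto, pow_orderOf_eq_one]
  obtain ⟨w0, hw0x, hww0, hzc, g, hg⟩ := exists_w0 hx f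
  have hmem : a * b * c * d ∈ _root_.commutator Fi24 := by
    rw [mul_assoc]
    exact mul_mem (FiTwentyFour.even hT.ha hT.hb) (FiTwentyFour.even hT.hc hT.hd)
  obtain ⟨ζ, hζ⟩ : ∃ ζ : Spor.Fi24', (ζ : Fi24) = a * b * c * d := ⟨⟨_, hmem⟩, rfl⟩
  obtain ⟨g', hg'⟩ := CTwoTab.FiTF.conj_tet (t := ζ) (a := a) (b := b) (c := c) (d := d) (by rw [hζ]; exact hT)
  obtain ⟨h, hh, he⟩ := exists_mk (f.symm (g' * g⁻¹))
  have he' : f (mk x hh) = g' * g⁻¹ := by rw [he, f.apply_symm_apply]
  have hh' : h⁻¹ * x = x * h⁻¹ := ((show Commute h x from hh).inv_left).eq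
  set w : Mon := h * w0 * h⁻¹ with hw
  have hwx : w * x = x * w := by
    rw [hw]
    exact (((show Commute h x from hh).mul_left (show Commute w0 x from hw0x)).mul_left
      (show Commute h⁻¹ x from hh')).eq
  have hfw : f (mk x hwx) = ζ := by
    have h1 : mk x hwx = mk x hh * mk x hw0x * (mk x hh)⁻¹ := rfl
    rw [h1, map_mul, map_mul, map_inv, he', hg, hg']
    group
  have hww : w * w = 1 := by
    rw [hw]
    calc h * w0 * h⁻¹ * (h * w0 * h⁻¹) = h * (w0 * w0) * h⁻¹ := by group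
      _ = 1 := by rw [hww0]; group
  have aa : a * a = 1 := FiTwentyFour.sq hT.ha
  have bb : b * b = 1 := FiTwentyFour.sq hT.hb
  have habab : (a * b) * (a * b) = 1 := by
    calc a * b * (a * b) = a * (b * a) * b := by group
      _ = a * (a * b) * b := by rw [hT.ab.eq]
      _ = (a * a) * (b * b) := by group
      _ = 1 := by rw [aa, bb, one_mul]
  have hcc : Commute (a * b) (c * d) :=
    (hT.ac.mul_right hT.ad).mul_left (hT.bc.mul_right hT.bd)
  have hwt : w * t = t * w := by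
    have hwi : w⁻¹ * x = x * w⁻¹ := ((show Commute w x from hwx).inv_left).eq
    have h1 : (w * t * w⁻¹) * x = x * (w * t * w⁻¹) :=
      (((show Commute w x from hwx).mul_left (show Commute t x from htx)).mul_left
        (show Commute w⁻¹ x from hwi)).eq
    have h2 : mk x h1 = mk x htx := by
      apply f.injective
      have h3 : mk x h1 = mk x hwx * mk x htx * (mk x hwx)⁻¹ := rfl
      rw [h3, map_mul, map_mul, map_inv, hfw]
      apply Subtype.ext
      rw [Subgroup.coe_mul, Subgroup.coe_mul, Subgroup.coe_inv, hζ, hf]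
      rw [mul_inv_eq_iff_eq_mul]
      calc a * b * c * d * (a * b) = a * b * ((c * d) * (a * b)) := by group
        _ = a * b * ((a * b) * (c * d)) := by rw [← hcc.eq]
        _ = a * b * (a * b * c * d) := by group
    have h4 := eq_of_mk hx h1 htx (by
      calc w * t * w⁻¹ * (w * t * w⁻¹) = w * (t * t) * w⁻¹ := by group
        _ = 1 := by rw [htt]; group) htt h2
    exact mul_inv_eq_iff_eq_mul.1 h4
  have hwtx : (w * t) * x = x * (w * t) :=
    ((show Commute w x from hwx).mul_left (show Commute t x from htx)).eq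
  have hfwt : ((f (mk x hwtx) : Spor.Fi24') : Fi24) = c * d := by
    have h3 : mk x hwtx = mk x hwx * mk x htx := rfl
    rw [h3, map_mul, Subgroup.coe_mul, hfw, hζ, hf]
    calc a * b * c * d * (a * b) = (a * b) * ((c * d) * (a * b)) := by group
      _ = (a * b) * ((a * b) * (c * d)) := by rw [← hcc.eq]
      _ = (a * b) * (a * b) * (c * d) := by group
      _ = c * d := by rw [habab, one_mul]
  -- `a b` and `c d` are conjugate
  have hT' : IsTet L (c * d * a * b) c d a b :=
    { ha := hT.hc, hb := hT.hd, hc := hT.ha, hd := hT.hb, ab := hT.cd, ac := hT.ac.symm, ad := hT.bc.symm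
      bc := hT.ad.symm, bd := hT.bd.symm, cd := hT.ab, nab := hT.ncd, nac := hT.nac.symm, nad := hT.nbc.symm
      nbc := hT.nad.symm, nbd := hT.nbd.symm, ncd := hT.nab, prod := rfl }
  obtain ⟨k, hk, e1, e2, -, -⟩ := TetBig.quad TetBigInst.hyp hT hT'
  have hconj : IsConj (f (mk x htx)) (f (mk x hwtx)) := by
    refine isConj_iff.2 ⟨⟨k, hk⟩, Subtype.ext ?_⟩
    rw [hfwt, Subgroup.coe_mul, Subgroup.coe_mul, Subgroup.coe_inv, hf]
    show k * (a * b) * k⁻¹ = c * d
    rw [← e1, ← e2]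
    group
  have hconj' : IsConj (mk x htx) (mk x hwtx) := by
    have h9 := f.symm.toMonoidHom.map_isConj hconj
    have e3 : f.symm.toMonoidHom (f (mk x htx)) = mk x htx := f.symm_apply_apply _
    have e4 : f.symm.toMonoidHom (f (mk x hwtx)) = mk x hwtx := f.symm_apply_apply _
    rwa [e3, e4] at h9
  have hwtwt : (w * t) * (w * t) = 1 := by
    calc w * t * (w * t) = w * (t * w) * t := by group
      _ = w * (w * t) * t := by rw [hwt]
      _ = (w * w) * (t * t) := by group
      _ = 1 := by rw [hww, htt, one_mul]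
  refine ⟨w, hwx, hww, IsConj.trans hzc (isConj_iff.2 ⟨h, hw.symm⟩), hwt, ?_, by rw [hfw, hζ], fun _ => hfwt⟩
  exact IsConj.trans hA (isConj_of_mk hx htx hwtx htt hwtwt hconj')

end Cfsg.Agent.H480.TC
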